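import Groth.Agent.Lib.SheafCoh.TensorInj
import Groth.Agent.Lib.SheafCoh.Top

/-!
# Internal homs into injective modules have surjective restriction maps
-/

universe u

open CategoryTheory Limits Opposite MonoidalCategory

namespace GrothLib.SheafHom19

open GrothLib.SheafCoh

lemma free_map_saturated {α β : Type u} (f : α → β) (hf : Function.Injective f)
    (x : FreeAbelianGroup β) (n : ℤ) (hn : n ≠ 0) (y : FreeAbelianGroup α)
    (h : FreeAbelianGroup.map f y = n • x) : ∃ z, FreeAbelianGroup.map f z = x := by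
  classical
  let r : FreeAbelianGroup β →+ FreeAbelianGroup α := FreeAbelianGroup.lift fun b =>
    if hb : ∃ a, f a = b then FreeAbelianGroup.of hb.choose else 0
  have hr : ∀ z, r (FreeAbelianGroup.map f z) = z := by
    intro z
    have : r.comp (FreeAbelianGroup.map f) = AddMonoidHom.id _ :=
      FreeAbelianGroup.lift_ext _ _ fun a => by
        have ha : ∃ a', f a' = f a := ⟨a, rfl⟩
        simp only [AddMonoidHom.comp_apply, FreeAbelianGroup.map_of_apply, r,
          FreeAbelianGroup.lift_apply_of, AddMonoidHom.id_apply, dif_pos ha]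
        rw [hf ha.choose_spec]
    exact DFunLike.congr_fun this z
  refine ⟨r x, ?_⟩
  have h1 : n • (FreeAbelianGroup.map f (r x) - x) = 0 := by
    rw [smul_sub, ← map_zsmul, ← map_zsmul, ← h, hr, sub_self]
  let e := FreeAbelianGroup.equivFinsupp β
  have h2 := congrArg e h1
  rw [map_zsmul, map_zero, smul_eq_zero] at h2
  exact sub_eq_zero.1 (e.injective ((h2.resolve_left hn).trans (map_zero e).symm))

variable {C : Type u} [SmallCategory C] {J : GrothendieckTopology C} (O : Sheaf J CommRingCat.{u})

theorem sheafHom_map_surjective (F G : ModSite.Mod O) [ModSite.HasSheafHom F] [Injective G]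
    {U V : C} (f : V ⟶ U) [Mono f] :
    Function.Surjective ((ModSite.toAb ((ModSite.sheafHom F).obj G)).obj.map f.op) := by
  let a := presheafToSheaf J AddCommGrpCat.{u}
  let φ : yoneda.obj V ⋙ AddCommGrpCat.free.{u} ⟶ yoneda.obj U ⋙ AddCommGrpCat.free.{u} :=
    Functor.whiskerRight (yoneda.map f) AddCommGrpCat.free.{u}
  have hφ : Mono φ := by
    have : ∀ W, Mono (φ.app W) := fun W => free_map_mono _ fun p q hpq => (cancel_mono f).1 hpq
    exact NatTrans.mono_of_mono_app _
  let P : ShortComplex (Cᵒᵖ ⥤ AddCommGrpCat.{u}) :=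
    ShortComplex.mk φ (cokernel.π φ) (cokernel.condition φ)
  have hP : P.ShortExact :=
    { exact := ShortComplex.exact_of_g_is_cokernel _ (cokernelIsCokernel φ)
      mono_f := hφ
      epi_g := inferInstanceAs (Epi (cokernel.π φ)) }
  have : PreservesFiniteLimits a := inferInstance
  have : PreservesFiniteColimits a := inferInstance
  have hS : (P.map a).ShortExact := hP.map_of_exact a
  have h₃ : SiteDer.torsionFree J (P.map a).X₃ := by
    refine SiteDer.torsionFree_presheafToSheaf _ fun W n x hn hx => ?_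
    obtain ⟨y, rfl⟩ := (AddCommGrpCat.epi_iff_surjective _).1
      ((NatTrans.epi_iff_epi_app (cokernel.π φ)).1 inferInstance W) x
    have hex := (ShortComplex.ab_exact_iff _).1 (hP.exact.map ((evaluation _ _).obj W))
    obtain ⟨z, hz⟩ := hex (n • y) ((map_zsmul ((cokernel.π φ).app W).hom n y).trans hx)
    obtain ⟨z', hz'⟩ := free_map_saturated (α := (yoneda.obj V).obj W) (β := (yoneda.obj U).obj W)
      ((yoneda.map f).app W) (fun p q hpq => (cancel_mono f).1 hpq) y n hn z hz
    rw [← hz']
    exact ConcreteCategory.congr_hom (NatTrans.congr_app P.zero W) z'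
  have hm := mono_tensTensor_map O F (P.map a) hS h₃
  let adj := (SiteDer.tensShAdj (ModSite.ringSh O)).comp (ModSite.sheafHomAdj F)
  intro s
  obtain ⟨ψ, rfl⟩ := (homFreeY _ V).surjective s
  obtain ⟨k, hk⟩ : ∃ k, (SiteDer.tensSh (ModSite.ringSh O) ⋙ (ModSite.tensorBi O).flip.obj F).map
      (P.map a).f ≫ k = (adj.homEquiv _ G).symm ψ :=
    ⟨@Injective.factorThru _ _ _ _ _ _ ((adj.homEquiv _ G).symm ψ) _ hm,
      @Injective.comp_factorThru _ _ _ _ _ _ ((adj.homEquiv _ G).symm ψ) _ hm⟩
  refine ⟨homFreeY _ U (adj.homEquiv _ G k), ?_⟩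
  refine (homFreeY_map _ f _).symm.trans (congrArg (homFreeY _ V) ?_)
  have h := adj.homEquiv_naturality_left (P.map a).f k
  replace h := ((congrArg (adj.homEquiv _ G) hk.symm).trans h)
  rw [Equiv.apply_symm_apply] at h
  exact h.symm

end GrothLib.SheafHom19
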